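import Cfsg.Agent.H310.MonC.FiveB
import Cfsg.Agent.H961.M5.MXB

/-!
# The elements of order 5 of the Monster, III (helper310, for S3852)
-/

set_option autoImplicit false

namespace Cfsg.Agent.H310.MonC

open Subgroup
open Cfsg Cfsg.Agent.MonsterX Cfsg.Agent.H777.M5 Cfsg.Agent.H497.Stein

/-- an involution in the centralizer -/
theorem Good.dvd {G : Type*} [Group G] {y : G} (h : Good y) :
    MovedAt y ∨ 2 ∣ Nat.card ↥(centralizer ({y} : Set G)) := by
  rcases h with ⟨t, ht, hty⟩ | h
  · right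
    have h1 : orderOf (⟨t, mem_centralizer_singleton_iff.2 hty⟩ : ↥(centralizer ({y} : Set G))) = 2 := by
      rw [Subgroup.orderOf_mk, ht]
    rw [← h1]
    exact orderOf_dvd_natCard _
  · exact Or.inl h

/-- **S5.** -/
theorem five {y : ↥InstData.M.G} (hy : orderOf y = 5) :
    MovedAt y ∨ 2 ∣ Nat.card ↥(centralizer ({y} : Set ↥InstData.M.G)) := by
  have hfin : Finite ↥InstData.M.G := Cfsg.Agent.MFive.Row.finite_model
  obtain ⟨P⟩ := Cfsg.Agent.H961.M5.MXB.exists_MX
  exact (good_five P hy).dvd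

end Cfsg.Agent.H310.MonC
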