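import Cfsg.Agent.H777.M5.MXDef
import Cfsg.Agent.H411.M5.Syl
import Cfsg.Agent.H497.Stein.Eng

/-!
# The elements of order 5 of the Monster (helper310, for S3852)

`G` with the data `MX G`: every element of order 5 commutes with an involution or is conjugate to its inverse.
-/

set_option autoImplicit false
set_option linter.unusedSectionVars false

namespace Cfsg.Agent.H310.MonC

open Matrix Subgroup
open Cfsg.Agent.H777.M5 Cfsg.Agent.H411.M5 Cfsg.Agent.H497.Stein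

section abs

variable {G : Type*} [Group G]

/-- commutes with an involution or is conjugate to another power -/
def Good (y : G) : Prop := (∃ t : G, orderOf t = 2 ∧ t * y = y * t) ∨ MovedAt y

theorem Good.of_conj {y g : G} (h : Good (g * y * g⁻¹)) : Good y := by
  rcases h with ⟨t, ht, hty⟩ | ⟨k, j, h1, h2⟩
  · left
    refine ⟨g⁻¹ * t * g, ?_, ?_⟩
    · have e : g⁻¹ * t * g = MulAut.conj g⁻¹ t := by simp
      rw [e, MulEquiv.orderOf_eq, ht]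
    · calc g⁻¹ * t * g * y = g⁻¹ * (t * (g * y * g⁻¹)) * g := by group
        _ = g⁻¹ * ((g * y * g⁻¹) * t) * g := by rw [hty]
        _ = y * (g⁻¹ * t * g) := by group
  · right
    refine ⟨g⁻¹ * k * g, j, ?_, ?_⟩
    · calc g⁻¹ * k * g * y * (g⁻¹ * k * g)⁻¹ = g⁻¹ * (k * (g * y * g⁻¹) * k⁻¹) * g := by group
        _ = g⁻¹ * (g * y * g⁻¹) ^ j * g := by rw [h1]
        _ = y ^ j := by rw [conj_pow]; group
    · intro h3
      apply h2
      rw [conj_pow, h3]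

theorem Good.of_pow {y : G} (hy : y ^ 5 = 1) {k : ℕ} (hk : k.Coprime 5) (h : Good (y ^ k)) : Good y := by
  obtain ⟨m, hm⟩ : ∃ m : ℕ, (y ^ k) ^ m = y := by
    have h1 : orderOf y ∣ 5 := orderOf_dvd_of_pow_eq_one hy
    exact exists_pow_eq_self_of_coprime (Nat.Coprime.coprime_dvd_right h1 hk)
  rcases h with ⟨t, ht, hty⟩ | ⟨g, j, h1, h2⟩
  · left
    refine ⟨t, ht, ?_⟩
    have h3 : Commute t (y ^ k) := hty
    have h4 := h3.pow_right m
    rw [hm] at h4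
    exact h4
  · right
    refine ⟨g, j, ?_, ?_⟩
    · calc g * y * g⁻¹ = g * (y ^ k) ^ m * g⁻¹ := by rw [hm]
        _ = (g * y ^ k * g⁻¹) ^ m := by rw [conj_pow]
        _ = ((y ^ k) ^ j) ^ m := by rw [h1]
        _ = ((y ^ k) ^ m) ^ j := by rw [← pow_mul (y ^ k), ← pow_mul (y ^ k), mul_comm j]
        _ = y ^ j := by rw [hm]
    · intro h3
      apply h2
      rw [← pow_mul, mul_comm, pow_mul, h3]

/-- conjugate to the inverse -/
theorem Good.of_inv {y : G} (hy : orderOf y = 5) {g : G} (h : g * y * g⁻¹ = y⁻¹) : Good y := by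
  right
  have h5 : y ^ 5 = 1 := by rw [← hy, pow_orderOf_eq_one]
  have e : y ^ 4 = y⁻¹ := by
    rw [eq_inv_iff_mul_eq_one, ← pow_succ]
    exact h5
  refine ⟨g, 4, by rw [h, e], ?_⟩
  rw [e]
  intro h1
  have h2 : y ^ 2 = 1 := by
    rw [pow_two]
    nth_rewrite 1 [← h1]
    exact inv_mul_cancel y
  have h3 := orderOf_dvd_of_pow_eq_one h2
  rw [hy] at h3
  norm_num at h3

end abs

/-! ### explicit conjugations in `PG` -/

section pg

open PG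

/-- `w(u)` -/
def wv (u : V6) : PG := ⟨u, 0, 0, 0⟩

theorem conj_wv (u : V6) (g : PG) : (wv u * g * (wv u)⁻¹).v = u + g.v - act g.i g.j u ∧
    (wv u * g * (wv u)⁻¹).i = g.i ∧ (wv u * g * (wv u)⁻¹).j = g.j := by
  refine ⟨?_, by simp [wv], by simp [wv]⟩
  simp [wv, act_one, act_neg, sub_eq_add_neg]

/-- the solution of `u - a u = v₄ e₄ + v₅ e₅ - v` -/
def UA : Matrix (Fin 6) (Fin 6) (ZMod 5) :=
  !![0, 0, 0, 0, 0, 0;
     0, 0, 0, 0, 0, 0;
     0, 0, -3, 3, 0, 0;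
     -1, 0, 1, -3, 0, 0;
     0, -1, 0, 0, 0, 0;
     0, 0, -1, 0, 0, 0]

/-- the solution of `u - b u = v₂ e₂ + v₅ e₅ - v` -/
def UB : Matrix (Fin 6) (Fin 6) (ZMod 5) :=
  !![0, 0, 0, 0, 0, 0;
     1, -3, 0, 0, 0, 0;
     0, 1, 0, 0, 0, 0;
     0, 0, 0, 0, 0, 0;
     0, 0, 0, 1, -3, 0;
     0, 0, 0, 0, 1, 0]

theorem five0 : (5 : ZMod 5) = 0 := by decide

theorem mat_ten : mat 1 0 = aM := by decide +kernel
theorem mat_one' : mat 0 1 = bM := by decide +kernel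

/-- the projection to the coordinates `r`, `s` -/
def PM (r s : Fin 6) : Matrix (Fin 6) (Fin 6) (ZMod 5) := fun i j => if i = j ∧ (i = r ∨ i = s) then 1 else 0

/-- the vector with the coordinates `p` at `r`, `q` at `s` -/
def vv (r s : Fin 6) (p q : ZMod 5) : V6 := fun i => if i = r then p else if i = s then q else 0

theorem PM_mulVec (r s : Fin 6) (hrs : r ≠ s) (v : V6) : PM r s *ᵥ v = vv r s (v r) (v s) := by
  funext i
  rw [mulVec, dotProduct, Finset.sum_eq_single i]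
  · unfold PM vv
    by_cases h1 : i = r
    · subst h1; simp
    · by_cases h2 : i = s
      · subst h2; simp [h1]
      · simp [h1, h2]
  · intro j _ hj
    have : PM r s i j = 0 := by
      unfold PM
      rw [if_neg]
      rintro ⟨h, -⟩
      exact hj h.symm
    rw [this, zero_mul]
  · intro h
    exact absurd (Finset.mem_univ _) h

theorem UA_eq : UA + 1 - aM * UA = PM 4 5 := by decide +kernel
theorem UB_eq : UB + 1 - bM * UB = PM 2 5 := by decide +kernel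

theorem ua_eq (v : V6) : UA *ᵥ v + v - act 1 0 (UA *ᵥ v) = vv 4 5 (v 4) (v 5) := by
  rw [act, mat_ten, mulVec_mulVec, ← PM_mulVec 4 5 (by decide), ← UA_eq, sub_mulVec, add_mulVec, one_mulVec]

theorem ub_eq (v : V6) : UB *ᵥ v + v - act 0 1 (UB *ᵥ v) = vv 2 5 (v 2) (v 5) := by
  rw [act, mat_one', mulVec_mulVec, ← PM_mulVec 2 5 (by decide), ← UB_eq, sub_mulVec, add_mulVec, one_mulVec]

/-- `t` -/
theorem tM_vv : ∀ p : ZMod 5, tM *ᵥ vv 4 5 p 0 = vv 4 5 p 0 := by decide +kernel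
theorem tM_vv' : ∀ p : ZMod 5, tM *ᵥ vv 4 5 0 p = -vv 4 5 0 p := by decide +kernel

theorem act_vv : ∀ k p q : ZMod 5, (act 0 k (vv 4 5 p q)) 4 = p + k * q ∧ (act 0 k (vv 4 5 p q)) 5 = q := by
  decide +kernel

theorem tM_vb : ∀ p q : ZMod 5, tM *ᵥ vv 2 5 p q = -vv 2 5 p q := by decide +kernel

/-- the statement of `conj_inv_aux` -/
abbrev CIA (p q c : ZMod 5) : Prop :=
    (wv (vv 2 5 p q + vv 0 3 (2 * c * q ^ 3) (if q = 0 then -2 * c * p ^ 3 else 0)) * (⟨-vv 2 5 p q, c, 0, -1⟩ : PG) *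
      (wv (vv 2 5 p q + vv 0 3 (2 * c * q ^ 3) (if q = 0 then -2 * c * p ^ 3 else 0)))⁻¹).v =
      ((⟨vv 2 5 p q, c, 0, 1⟩ : PG)⁻¹).v ∧
    (wv (vv 2 5 p q + vv 0 3 (2 * c * q ^ 3) (if q = 0 then -2 * c * p ^ 3 else 0)) * (⟨-vv 2 5 p q, c, 0, -1⟩ : PG) *
      (wv (vv 2 5 p q + vv 0 3 (2 * c * q ^ 3) (if q = 0 then -2 * c * p ^ 3 else 0)))⁻¹).c =
      ((⟨vv 2 5 p q, c, 0, 1⟩ : PG)⁻¹).c

theorem conj_inv_aux_sp0 : ∀ p q c : ZMod 5, p = 0 → (p ≠ 0 ∨ q ≠ 0) → CIA p q c := by decide +kernel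
theorem conj_inv_aux_sp1 : ∀ p q c : ZMod 5, p = 1 → (p ≠ 0 ∨ q ≠ 0) → CIA p q c := by decide +kernel
theorem conj_inv_aux_sp2 : ∀ p q c : ZMod 5, p = 2 → (p ≠ 0 ∨ q ≠ 0) → CIA p q c := by decide +kernel
theorem conj_inv_aux_sp3 : ∀ p q c : ZMod 5, p = 3 → (p ≠ 0 ∨ q ≠ 0) → CIA p q c := by decide +kernel
theorem conj_inv_aux_sp4 : ∀ p q c : ZMod 5, p = 4 → (p ≠ 0 ∨ q ≠ 0) → CIA p q c := by decide +kernel

theorem conj_inv_aux : ∀ p q c : ZMod 5, (p ≠ 0 ∨ q ≠ 0) →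
    (wv (vv 2 5 p q + vv 0 3 (2 * c * q ^ 3) (if q = 0 then -2 * c * p ^ 3 else 0)) * (⟨-vv 2 5 p q, c, 0, -1⟩ : PG) *
      (wv (vv 2 5 p q + vv 0 3 (2 * c * q ^ 3) (if q = 0 then -2 * c * p ^ 3 else 0)))⁻¹).v =
      ((⟨vv 2 5 p q, c, 0, 1⟩ : PG)⁻¹).v ∧
    (wv (vv 2 5 p q + vv 0 3 (2 * c * q ^ 3) (if q = 0 then -2 * c * p ^ 3 else 0)) * (⟨-vv 2 5 p q, c, 0, -1⟩ : PG) *
      (wv (vv 2 5 p q + vv 0 3 (2 * c * q ^ 3) (if q = 0 then -2 * c * p ^ 3 else 0)))⁻¹).c =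
      ((⟨vv 2 5 p q, c, 0, 1⟩ : PG)⁻¹).c := by
  intro p q c h
  have hp : ∀ p : ZMod 5, p = 0 ∨ p = 1 ∨ p = 2 ∨ p = 3 ∨ p = 4 := by decide
  rcases hp p with h0 | h0 | h0 | h0 | h0
  · exact conj_inv_aux_sp0 p q c h0 h
  · exact conj_inv_aux_sp1 p q c h0 h
  · exact conj_inv_aux_sp2 p q c h0 h
  · exact conj_inv_aux_sp3 p q c h0 h
  · exact conj_inv_aux_sp4 p q c h0 h

/-- `t g t⁻¹` and `g⁻¹` are conjugate -/
theorem conj_inv {p q : ZMod 5} (c : ZMod 5) (h : p ≠ 0 ∨ q ≠ 0) : ∃ y : PG,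
    y * (⟨-vv 2 5 p q, c, 0, -1⟩ : PG) * y⁻¹ = (⟨vv 2 5 p q, c, 0, 1⟩ : PG)⁻¹ := by
  obtain ⟨h1, h2⟩ := conj_inv_aux p q c h
  exact ⟨wv (vv 2 5 p q + vv 0 3 (2 * c * q ^ 3) (if q = 0 then -2 * c * p ^ 3 else 0)),
    PG.ext h1 h2 (by simp [wv]) (by simp [wv])⟩

/-- elements of `W ∖ ⟨x⟩`: `w(-v) x ^ c` and the inverse of `w(v) x ^ c` are conjugate -/
theorem conj_inv_w {v : V6} (hv : v ≠ 0) (c : ZMod 5) : ∃ y : PG, y * (⟨-v, c, 0, 0⟩ : PG) * y⁻¹ = (⟨v, c, 0, 0⟩ : PG)⁻¹ := by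
  obtain ⟨u, hu⟩ : ∃ u, om v u ≠ 0 := by
    by_contra hcon
    push Not at hcon
    exact hv (om_nondeg hcon)
  obtain ⟨m, hm⟩ : ∃ m : ZMod 5, m * om v u = -2 * c :=
    ⟨-2 * c * (om v u)⁻¹, by
      have : Fact (Nat.Prime 5) := ⟨Nat.prime_five⟩
      rw [mul_assoc, inv_mul_cancel₀ hu, mul_one]⟩
  refine ⟨wv (m • u), ?_⟩
  have h5 := five0
  ext1
  · simp [wv, act_one]
  · have e1 : om (m • u) (-v) = -2 * c := by
      rw [om_smul_left, om_neg_right, om_swap v u, neg_neg, hm]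
    have e2 : om (m • u + -v) (-(m • u)) = -2 * c := by
      rw [om_add_left, om_neg_left, om_neg_right, om_self, om_neg_right, om_smul_right, hm, neg_zero, zero_add, neg_neg]
    simp only [wv, mul_c, mul_v, inv_c, inv_v, act_one, mul_i, mul_j, neg_zero, add_zero, zero_add]
    rw [e1, e2]
    linear_combination (-2 * c) * h5
  · simp [wv]
  · simp [wv]

end pg


end Cfsg.Agent.H310.MonC
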